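import Cfsg.Agent.H644.KGV.Goals
import Cfsg.Agent.Characters.Core

/-!
# TEAM KGV, task TI: tensor induction from a normal subgroup of prime index (helper891)

* `tmat`, `tmat_mul`, `tmat_one` : the matrices of the tensor induced representation of a matrix representation
  `R : A →* Matrix J J ℂ` along a cocycle;
* `walk` : the sum over closed walks;
* `tensorInd : TensorInd`.
-/

set_option autoImplicit false

namespace Cfsg.Agent.H891.KGV

open Cfsg Cfsg.Agent.Characters.Core Cfsg.Agent.H644.KGV Finset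

universe u

section mat

variable {G A ι J : Type*} [Group G] [Group A] [Fintype ι] [DecidableEq ι] [Fintype J] [DecidableEq J]

/-- The matrices of the tensor induced representation. -/
def tmat (R : A →* Matrix J J ℂ) (π : G →* Equiv.Perm ι) (a : G → ι → A) (g : G) : Matrix (ι → J) (ι → J) ℂ :=
  Matrix.of fun x y => ∏ i, R (a g i) (x (π g i)) (y i)

theorem tmat_mul (R : A →* Matrix J J ℂ) (π : G →* Equiv.Perm ι) (a : G → ι → A)
    (ha : ∀ g h i, a (g * h) i = a g (π h i) * a h i) (g h : G) :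
    tmat R π a (g * h) = tmat R π a g * tmat R π a h := by
  ext x z
  rw [Matrix.mul_apply]
  simp only [tmat, Matrix.of_apply]
  have e1 : ∀ i, R (a (g * h) i) (x (π (g * h) i)) (z i) =
      ∑ k, R (a g (π h i)) (x (π g (π h i))) k * R (a h i) k (z i) := by
    intro i
    rw [ha, map_mul, Matrix.mul_apply, map_mul]
    rfl
  rw [Finset.prod_congr rfl fun i _ => e1 i, Finset.prod_univ_sum, Fintype.piFinset_univ]
  rw [← Equiv.sum_comp (Equiv.arrowCongr (π h).symm (Equiv.refl J))]
  refine Finset.sum_congr rfl fun w _ => ?_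
  rw [← Equiv.prod_comp (π h) (fun j => R (a g j) (x (π g j)) _), ← Finset.prod_mul_distrib]
  refine Finset.prod_congr rfl fun i _ => ?_
  simp [Equiv.arrowCongr]

omit [DecidableEq ι] in
theorem tmat_one (R : A →* Matrix J J ℂ) (π : G →* Equiv.Perm ι) (a : G → ι → A)
    (ha : ∀ g h i, a (g * h) i = a g (π h i) * a h i) : tmat R π a 1 = 1 := by
  have h1 : ∀ i, a 1 i = 1 := by
    intro i
    have := ha 1 1 i
    rw [mul_one, map_one] at this
    exact (mul_eq_right.1 this.symm)
  ext x y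
  simp only [tmat, Matrix.of_apply, h1, map_one, Equiv.Perm.coe_one, id_eq]
  by_cases hxy : x = y
  · subst hxy
    simp
  · obtain ⟨i, hi⟩ := Function.ne_iff.1 hxy
    rw [Matrix.one_apply_ne hxy]
    exact Finset.prod_eq_zero (Finset.mem_univ i) (Matrix.one_apply_ne hi)

variable {Γ : Type*} [AddCommMonoid Γ] [DecidableEq Γ]

omit [DecidableEq ι] in
theorem tmat_grade (R : A →* Matrix J J ℂ) (π : G →* Equiv.Perm ι) (a : G → ι → A) (γ : J → Γ)
    (hR : ∀ n j k, γ j ≠ γ k → R n j k = 0) (g : G) (x y : ι → J) (h : ∑ i, γ (x i) ≠ ∑ i, γ (y i)) :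
    tmat R π a g x y = 0 := by
  by_contra hne
  apply h
  have h1 : ∀ i, γ (x (π g i)) = γ (y i) := by
    intro i
    by_contra hi
    apply hne
    exact Finset.prod_eq_zero (Finset.mem_univ i) (hR _ _ _ hi)
  rw [← Equiv.sum_comp (π g)]
  exact Finset.sum_congr rfl fun i _ => h1 i

/-- The graded pieces of the tensor induced representation. -/
theorem isCharacter_grade (R : A →* Matrix J J ℂ) (π : G →* Equiv.Perm ι) (a : G → ι → A)
    (ha : ∀ g h i, a (g * h) i = a g (π h i) * a h i) (γ : J → Γ)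
    (hR : ∀ n j k, γ j ≠ γ k → R n j k = 0) (k : Γ) :
    IsCharacter G (fun g => ∑ x : {x : ι → J // ∑ i, γ (x i) = k}, tmat R π a g x x) := by
  let M : G →* Matrix {x : ι → J // ∑ i, γ (x i) = k} {x : ι → J // ∑ i, γ (x i) = k} ℂ :=
    { toFun := fun g => Matrix.of fun x y => tmat R π a g x y
      map_one' := by
        ext x y
        rw [Matrix.of_apply, tmat_one R π a ha, Matrix.one_apply, Matrix.one_apply]
        simp only [Subtype.ext_iff]
      map_mul' := by
        intro g h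
        ext x y
        have h1 : ∑ z : {x : ι → J // ∑ i, γ (x i) = k}, tmat R π a g x z * tmat R π a h z y =
            ∑ z ∈ Finset.univ.filter (fun x : ι → J => ∑ i, γ (x i) = k), tmat R π a g x z * tmat R π a h z y :=
          (Finset.sum_subtype _ (by simp) fun z => tmat R π a g x z * tmat R π a h z y).symm
        have h2 : ∑ z ∈ Finset.univ.filter (fun x : ι → J => ¬ ∑ i, γ (x i) = k),
            tmat R π a g x z * tmat R π a h z y = 0 := by
          apply Finset.sum_eq_zero
          intro z hz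
          have hz' := (Finset.mem_filter.1 hz).2
          rw [tmat_grade R π a γ hR g x z (by rw [x.2]; exact fun h => hz' h.symm), zero_mul]
        have h3 : tmat R π a (g * h) x y = ∑ z : {x : ι → J // ∑ i, γ (x i) = k},
            tmat R π a g x z * tmat R π a h z y := by
          rw [tmat_mul R π a ha, Matrix.mul_apply,
            ← Finset.sum_filter_add_sum_filter_not Finset.univ (fun x : ι → J => ∑ i, γ (x i) = k), h2, add_zero, h1]
        exact h3 }
  let ρ : Representation ℂ G ({x : ι → J // ∑ i, γ (x i) = k} → ℂ) :=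
    (Matrix.toLinAlgEquiv' (R := ℂ) (n := {x : ι → J // ∑ i, γ (x i) = k})).toMonoidHom.comp M
  have h1 : (fun g => ∑ x : {x : ι → J // ∑ i, γ (x i) = k}, tmat R π a g x x) = ρ.character := by
    funext g
    change _ = LinearMap.trace ℂ _ (Matrix.toLin' (M g))
    rw [Matrix.trace_toLin'_eq]
    rfl
  rw [h1]
  exact isCharacter_of_rep ρ

end mat

section walk

variable {J : Type*} [Fintype J] [DecidableEq J]

/-- The product `C (n - 1) * ... * C 0`. -/
def pth : (n : ℕ) → (Fin n → Matrix J J ℂ) → Matrix J J ℂ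
  | 0, _ => 1
  | n + 1, C => C (Fin.last n) * pth n fun i => C i.castSucc

theorem pth_succ (n : ℕ) (C : Fin (n + 1) → Matrix J J ℂ) :
    pth (n + 1) C = C (Fin.last n) * pth n fun i => C i.castSucc := rfl

theorem sum_path (n : ℕ) (C : Fin n → Matrix J J ℂ) (φ : J → J → ℂ) :
    ∑ x : Fin (n + 1) → J, (∏ i : Fin n, C i (x i.succ) (x i.castSucc)) * φ (x 0) (x (Fin.last n)) =
      ∑ j, ∑ k, pth n C k j * φ j k := by
  induction n generalizing φ with
  | zero =>
    rw [← Equiv.sum_comp (Equiv.funUnique (Fin 1) J).symm]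
    apply Finset.sum_congr rfl
    intro j _
    rw [Finset.sum_eq_single j]
    · simp [pth]
    · intro k _ hk
      rw [pth, Matrix.one_apply_ne hk, zero_mul]
    · intro h
      exact absurd (Finset.mem_univ _) h
  | succ n ih =>
    have h1 := ih (fun i => C i.castSucc) (fun j l => ∑ k, C (Fin.last n) k l * φ j k)
    have h2 : ∑ x : Fin (n + 1 + 1) → J, (∏ i : Fin (n + 1), C i (x i.succ) (x i.castSucc)) *
        φ (x 0) (x (Fin.last (n + 1))) = ∑ x : Fin (n + 1) → J, (∏ i : Fin n, C i.castSucc (x i.succ) (x i.castSucc)) *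
          ∑ k, C (Fin.last n) k (x (Fin.last n)) * φ (x 0) k := by
      rw [← Equiv.sum_comp (Fin.snocEquiv fun _ => J), Fintype.sum_prod_type, Finset.sum_comm]
      apply Finset.sum_congr rfl
      intro x _
      rw [Finset.mul_sum]
      apply Finset.sum_congr rfl
      intro k _
      rw [Fin.prod_univ_castSucc, mul_assoc]
      congr 1
      · apply Finset.prod_congr rfl
        intro i _
        simp only [Fin.snocEquiv_apply, Fin.snoc_castSucc, Fin.succ_castSucc]
      · have h0 : (Fin.snoc x k : Fin (n + 1 + 1) → J) 0 = x 0 := by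
          rw [← Fin.castSucc_zero, Fin.snoc_castSucc]
        simp only [Fin.snocEquiv_apply, Fin.snoc_castSucc, Fin.succ_last, Fin.snoc_last, h0]
    rw [h2, h1]
    apply Finset.sum_congr rfl
    intro j _
    simp only [Finset.mul_sum]
    rw [Finset.sum_comm]
    apply Finset.sum_congr rfl
    intro k _
    rw [pth_succ, Matrix.mul_apply, Finset.sum_mul]
    apply Finset.sum_congr rfl
    intro l _
    ring

/-- The sum over closed walks. -/
theorem walk (n : ℕ) (B : Fin (n + 1) → Matrix J J ℂ) :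
    ∑ x : Fin (n + 1) → J, ∏ i : Fin (n + 1), B i (x (i + 1)) (x i) = (pth (n + 1) B).trace := by
  have h1 := sum_path n (fun i => B i.castSucc) (fun j k => B (Fin.last n) j k)
  have h2 : ∑ x : Fin (n + 1) → J, ∏ i : Fin (n + 1), B i (x (i + 1)) (x i) = ∑ x : Fin (n + 1) → J,
      (∏ i : Fin n, B i.castSucc (x i.succ) (x i.castSucc)) * B (Fin.last n) (x 0) (x (Fin.last n)) := by
    apply Finset.sum_congr rfl
    intro x _
    rw [Fin.prod_univ_castSucc]
    congr 1
    · apply Finset.prod_congr rfl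
      intro i _
      rw [Fin.coeSucc_eq_succ]
    · rw [Fin.last_add_one]
  rw [h2, h1, pth_succ, Matrix.trace, Finset.sum_congr rfl]
  intro j _
  rw [Matrix.diag_apply, Matrix.mul_apply]
  apply Finset.sum_congr rfl
  intro k _
  ring

theorem pth_cocycle {G A ι : Type*} [Group G] [Group A] (R : A →* Matrix J J ℂ) (D : Matrix J J ℂ)
    (hD : ∀ n, Commute (R n) D) (π : G →* Equiv.Perm ι) (a : G → ι → A)
    (ha : ∀ g h i, a (g * h) i = a g (π h i) * a h i) (h : G) (c : ι) (k : ℕ) :
    pth k (fun i : Fin k => R (a h (π (h ^ (i : ℕ)) c)) * D) = R (a (h ^ k) c) * D ^ k := by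
  induction k with
  | zero =>
    have h1 : a 1 c = 1 := by
      have := ha 1 1 c
      rw [mul_one, map_one] at this
      exact (mul_eq_right.1 this.symm)
    rw [pow_zero, h1, map_one, pow_zero, one_mul, pth]
  | succ k ih =>
    rw [pth_succ]
    simp only [Fin.val_last, Fin.val_castSucc]
    rw [ih, pow_succ' h, ha, map_mul, pow_succ' D]
    have h2 := (hD (a (h ^ k) c)).eq
    rw [Matrix.mul_assoc, ← Matrix.mul_assoc D, ← h2, Matrix.mul_assoc, Matrix.mul_assoc]

end walk

section quot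

theorem bijective_pow {Q : Type*} [Group Q] {ℓ : ℕ} (hℓ : ℓ.Prime) (hQ : Nat.card Q = ℓ) {x : Q} (hx : x ≠ 1) :
    Function.Bijective (fun i : Fin ℓ => x ^ (i : ℕ)) := by
  have hfin : Finite Q := Nat.finite_of_card_ne_zero (by rw [hQ]; exact hℓ.ne_zero)
  have := Fintype.ofFinite Q
  have ho : orderOf x = ℓ := by
    rcases (Nat.dvd_prime hℓ).1 (hQ ▸ orderOf_dvd_natCard x) with h | h
    · exact absurd (orderOf_eq_one_iff.1 h) hx
    · exact h
  rw [Fintype.bijective_iff_injective_and_card]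
  refine ⟨fun i j hij => ?_, by rw [Fintype.card_fin, ← Nat.card_eq_fintype_card, hQ]⟩
  apply Fin.ext
  exact pow_injOn_Iio_orderOf (by rw [Set.mem_Iio, ho]; exact i.2) (by rw [Set.mem_Iio, ho]; exact j.2) hij

end quot

section genuine

theorem addChar_sum {A ι : Type*} [AddCommMonoid A] (ψ : AddChar A ℂ) (s : Finset ι) (f : ι → A) :
    ψ (∑ i ∈ s, f i) = ∏ i ∈ s, ψ (f i) := by
  classical
  induction s using Finset.induction_on with
  | empty => rw [Finset.sum_empty, Finset.prod_empty, AddChar.map_zero_eq_one]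
  | insert i s hi ih => rw [Finset.sum_insert hi, Finset.prod_insert hi, AddChar.map_add_eq_mul, ih]

variable {G : Type u} [Group G]

/-- The `θ k` may be chosen genuine. -/
theorem uint_genuine {p : ℕ} [Fact p.Prime] {κ : ZMod p → G → ℂ} (h : UInt p G κ) :
    ∃ θ : ZMod p → G → ℂ, (∀ k, IsCharacter G (θ k)) ∧
      ∀ a, a ≠ 0 → ∀ g, κ a g = ∑ k : ZMod p, (ZMod.stdAddChar (a * k) : ℂ) * θ k g := by
  classical
  obtain ⟨θ, hθ, h⟩ := h
  choose χ ψ hχ hψ hθ' using hθ
  refine ⟨fun k => χ k + ∑ j ∈ Finset.univ.erase k, ψ j, fun k => ?_, fun a ha g => ?_⟩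
  · exact isCharacter_add (hχ k) (isCharacter_sum _ fun j _ => hψ j)
  · have h1 : ∑ k : ZMod p, (ZMod.stdAddChar (a * k) : ℂ) = 0 := by
      have h2 := AddChar.sum_eq_zero_of_ne_one (ψ := (ZMod.stdAddChar (N := p)).mulShift a) ?_
      · simpa [AddChar.mulShift_apply] using h2
      · intro h2
        have h3 := congrArg (fun f : AddChar (ZMod p) ℂ => f 1) h2
        simp only [AddChar.mulShift_apply, mul_one, AddChar.one_apply] at h3
        exact ha (ZMod.injective_stdAddChar (h3.trans (AddChar.map_zero_eq_one _).symm))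
    rw [h a ha g]
    have h2 : ∀ k, (χ k + ∑ j ∈ Finset.univ.erase k, ψ j) g = θ k g + ∑ j, ψ j g := by
      intro k
      rw [hθ' k, Pi.add_apply, Finset.sum_apply, Pi.sub_apply, ← Finset.add_sum_erase _ _ (Finset.mem_univ k)]
      ring
    simp only [h2, mul_add, Finset.sum_add_distrib, ← Finset.sum_mul, h1, zero_mul, add_zero]

end genuine

/-- **Tensor induction** (task TI of TEAM KGV). -/
theorem tensorInd : TensorInd.{u} := by
  classical
  intro p _ H _ _ N _ ℓ hℓ hℓp hidx t ht κ hκ κ' h1 h2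
  obtain ⟨θ, hθ, hκ⟩ := uint_genuine hκ
  choose d ρ hρ using hθ
  have : Fintype (H ⧸ N) := Fintype.ofFinite _
  have hcard : Nat.card (H ⧸ N) = ℓ := hidx
  -- the graded matrix representation
  let J := Σ k : ZMod p, Fin (d k)
  let γ : J → ZMod p := Sigma.fst
  let R : N →* Matrix J J ℂ :=
    { toFun := fun n => Matrix.blockDiagonal' fun k => LinearMap.toMatrix' (ρ k n)
      map_one' := by
        have h3 : (fun k => LinearMap.toMatrix' (ρ k 1)) = (1 : ∀ k, Matrix (Fin (d k)) (Fin (d k)) ℂ) := by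
          funext k
          rw [map_one]
          exact LinearMap.toMatrix'_one
        rw [h3, Matrix.blockDiagonal'_one]
      map_mul' := by
        intro m n
        rw [← Matrix.blockDiagonal'_mul]
        congr 1
        funext k
        rw [map_mul]
        exact LinearMap.toMatrix'_mul _ _ }
  have hR : ∀ n j k, γ j ≠ γ k → R n j k = 0 := by
    rintro n ⟨j, j'⟩ ⟨k, k'⟩ hjk
    exact Matrix.blockDiagonal'_apply_ne (fun k => LinearMap.toMatrix' (ρ k n)) j' k' hjk
  have hRtr : ∀ (a : ZMod p) (n : N), ∑ j : J, R n j j * (ZMod.stdAddChar (a * γ j) : ℂ) =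
      ∑ k : ZMod p, (ZMod.stdAddChar (a * k) : ℂ) * θ k n := by
    intro a n
    rw [Fintype.sum_sigma]
    apply Finset.sum_congr rfl
    intro k _
    rw [← hρ k]
    have h3 : (ρ k).character n = ∑ i, LinearMap.toMatrix' (ρ k n) i i := by
      change LinearMap.trace ℂ _ (ρ k n) = _
      rw [← Matrix.toLin'_toMatrix' (ρ k n), Matrix.trace_toLin'_eq, Matrix.toLin'_toMatrix']
      rfl
    rw [h3, Finset.mul_sum]
    apply Finset.sum_congr rfl
    intro i _
    have h4 : R n ⟨k, i⟩ ⟨k, i⟩ = LinearMap.toMatrix' (ρ k n) i i :=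
      Matrix.blockDiagonal'_apply_eq (fun k => LinearMap.toMatrix' (ρ k n)) k i i
    rw [h4, mul_comm]
  have hmk : ∀ {x y : H}, ((x : H ⧸ N) = (y : H ⧸ N)) ↔ x⁻¹ * y ∈ N := fun {x y} => QuotientGroup.eq
  -- the section
  have htQ : (t : H ⧸ N) ≠ 1 := fun h => ht ((QuotientGroup.eq_one_iff t).1 h)
  have htQ' : ((t : H ⧸ N))⁻¹ ≠ 1 := inv_ne_one.2 htQ
  let e : Fin ℓ ≃ H ⧸ N := Equiv.ofBijective _ (bijective_pow hℓ hcard htQ')
  have he : ∀ i : Fin ℓ, e i = (((t ^ (i : ℕ))⁻¹ : H) : H ⧸ N) := by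
    intro i
    change ((t : H ⧸ N))⁻¹ ^ (i : ℕ) = _
    rw [inv_pow]
    rfl
  let s : H ⧸ N → H := fun c => (t ^ ((e.symm c : Fin ℓ) : ℕ))⁻¹
  have hs : ∀ c, ((s c : H) : H ⧸ N) = c := by
    intro c
    have h3 := he (e.symm c)
    rw [Equiv.apply_symm_apply] at h3
    exact h3.symm
  have hse : ∀ i, s (e i) = (t ^ (i : ℕ))⁻¹ := by
    intro i
    simp only [s, Equiv.symm_apply_apply]
  let π : H →* Equiv.Perm (H ⧸ N) := MulAction.toPermHom H (H ⧸ N)
  have hπ : ∀ (h x : H), π h (x : H ⧸ N) = ((h * x : H) : H ⧸ N) := fun _ _ => rfl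
  have hamem : ∀ (h : H) (c : H ⧸ N), (s (π h c))⁻¹ * h * s c ∈ N := by
    intro h c
    have h3 : ((s (π h c) : H) : H ⧸ N) = ((h * s c : H) : H ⧸ N) := by
      rw [hs, ← hπ, hs]
    have h4 := hmk.1 h3
    rwa [← mul_assoc] at h4
  let a : H → H ⧸ N → N := fun h c => ⟨(s (π h c))⁻¹ * h * s c, hamem h c⟩
  have hadef : ∀ h c, ((a h c : N) : H) = (s (π h c))⁻¹ * h * s c := fun _ _ => rfl
  have ha : ∀ g h c, a (g * h) c = a g (π h c) * a h c := by
    intro g h c
    apply Subtype.ext
    rw [Subgroup.coe_mul, hadef, hadef, hadef, map_mul, Equiv.Perm.mul_apply]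
    group
  -- the weights
  let D : ZMod p → Matrix J J ℂ := fun b => Matrix.diagonal fun j => (ZMod.stdAddChar (b * γ j) : ℂ)
  have hRD : ∀ b n j k, (R n * D b) j k = R n j k * (ZMod.stdAddChar (b * γ k) : ℂ) := by
    intro b n j k
    rw [Matrix.mul_diagonal]
  have hDcomm : ∀ b n, Commute (R n) (D b) := by
    intro b n
    ext j k
    rw [hRD, Matrix.diagonal_mul]
    by_cases hjk : γ j = γ k
    · rw [hjk, mul_comm]
    · rw [hR n j k hjk, zero_mul, mul_zero]
  have hDpow : ∀ (b : ZMod p) (m : ℕ), D b ^ m = D ((m : ZMod p) * b) := by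
    intro b m
    simp only [D, Matrix.diagonal_pow]
    congr 1
    funext j
    rw [Pi.pow_apply, ← AddChar.map_nsmul_eq_pow, nsmul_eq_mul, mul_assoc]
  have htr : ∀ b n, (R n * D b).trace = ∑ k : ZMod p, (ZMod.stdAddChar (b * k) : ℂ) * θ k n := by
    intro b n
    rw [← hRtr, Matrix.trace]
    exact Finset.sum_congr rfl fun j _ => hRD b n j j
  -- the graded characters
  refine ⟨fun k g => ∑ x : {x : H ⧸ N → J // ∑ i, γ (x i) = k}, tmat R π a g x x, fun k => ?_, fun b hb g => ?_⟩
  · refine ⟨_, 0, isCharacter_grade R π a ha γ hR k, isCharacter_zero, by rw [sub_zero]⟩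
  have hval : ∑ k : ZMod p, (ZMod.stdAddChar (b * k) : ℂ) *
      ∑ x : {x : H ⧸ N → J // ∑ i, γ (x i) = k}, tmat R π a g x x =
      ∑ x : H ⧸ N → J, ∏ c, (R (a g c) * D b) (x (π g c)) (x c) := by
    have h3 : ∀ k : ZMod p, (ZMod.stdAddChar (b * k) : ℂ) *
        ∑ x : {x : H ⧸ N → J // ∑ i, γ (x i) = k}, tmat R π a g x x =
        ∑ x ∈ Finset.univ.filter (fun x : H ⧸ N → J => ∑ i, γ (x i) = k),
          ∏ c, (R (a g c) * D b) (x (π g c)) (x c) := by
      intro k
      rw [Finset.mul_sum, Finset.sum_subtype (Finset.univ.filter (fun x : H ⧸ N → J => ∑ i, γ (x i) = k))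
        (p := fun x : H ⧸ N → J => ∑ i, γ (x i) = k) (by simp)]
      apply Finset.sum_congr rfl
      intro x _
      simp only [hRD]
      rw [Finset.prod_mul_distrib, mul_comm]
      congr 1
      have hx := x.2
      rw [← addChar_sum, ← Finset.mul_sum, hx]
    rw [Finset.sum_congr rfl fun k _ => h3 k]
    exact Finset.sum_fiberwise Finset.univ (fun x : H ⧸ N → J => ∑ i, γ (x i)) _
  rw [hval]
  by_cases hg : g ∈ N
  · -- on `N`
    have hfix : ∀ c, π g c = c := by
      intro c
      obtain ⟨x, rfl⟩ := QuotientGroup.mk_surjective c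
      rw [hπ, hmk, mul_inv_rev, mul_assoc]
      have h3 := Subgroup.Normal.conj_mem ‹N.Normal› _ (N.inv_mem hg) x⁻¹
      rwa [inv_inv, mul_assoc] at h3
    have h3 : ∑ x : H ⧸ N → J, ∏ c, (R (a g c) * D b) (x (π g c)) (x c) = ∏ c, (R (a g c) * D b).trace := by
      simp only [hfix, Matrix.trace, Matrix.diag_apply]
      rw [Finset.prod_univ_sum, Fintype.piFinset_univ]
    rw [h3, h1 b hb ⟨g, hg⟩, ← Equiv.prod_comp e, ← Fin.prod_univ_eq_prod_range (n := ℓ)]
    apply Finset.prod_congr rfl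
    intro i _
    rw [htr, hκ b hb]
    have h4 : a g (e i) = ⟨t ^ (i : ℕ) * g * (t ^ (i : ℕ))⁻¹, Subgroup.Normal.conj_mem ‹_› _ hg _⟩ := by
      apply Subtype.ext
      rw [hadef, hfix, hse, inv_inv]
    rw [h4]
  · -- off `N`
    obtain ⟨n, rfl⟩ : ∃ n, ℓ = n + 1 := ⟨ℓ - 1, (Nat.succ_pred_eq_of_pos hℓ.pos).symm⟩
    have hgQ : (g : H ⧸ N) ≠ 1 := fun h => hg ((QuotientGroup.eq_one_iff g).1 h)
    let e' : Fin (n + 1) ≃ H ⧸ N := Equiv.ofBijective _ (bijective_pow hℓ hcard hgQ)
    have he' : ∀ i : Fin (n + 1), e' i = ((g ^ (i : ℕ) : H) : H ⧸ N) := fun i => rfl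
    have hpow : g ^ (n + 1) ∈ N := by
      rw [← QuotientGroup.eq_one_iff]
      have h3 : ((g : H ⧸ N)) ^ (n + 1) = 1 := by
        rw [← hcard]
        exact pow_card_eq_one'
      exact h3
    have hcyc : ∀ i : Fin (n + 1), π g (e' i) = e' (i + 1) := by
      intro i
      rw [he', hπ, he', ← pow_succ']
      rcases Fin.lt_or_eq_of_le (Fin.le_last i) with h3 | h3
      · have h4 : ((i + 1 : Fin (n + 1)) : ℕ) = (i : ℕ) + 1 := Fin.val_add_one_of_lt h3
        rw [h4]
      · subst h3
        rw [Fin.last_add_one, Fin.val_last, Fin.val_zero, pow_zero]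
        exact (QuotientGroup.eq_one_iff _).2 hpow
    have h3 : ∑ x : H ⧸ N → J, ∏ c, (R (a g c) * D b) (x (π g c)) (x c) =
        ∑ x : Fin (n + 1) → J, ∏ i : Fin (n + 1), (R (a g (e' i)) * D b) (x (i + 1)) (x i) := by
      rw [← Equiv.sum_comp (Equiv.arrowCongr e' (Equiv.refl J))]
      apply Finset.sum_congr rfl
      intro x _
      rw [← Equiv.prod_comp e']
      apply Finset.prod_congr rfl
      intro i _
      rw [hcyc]
      simp [Equiv.arrowCongr]
    rw [h3, walk]
    have h4 : ∀ i : Fin (n + 1), e' i = π (g ^ (i : ℕ)) ((1 : H) : H ⧸ N) := by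
      intro i
      rw [hπ, he', mul_one]
    have h5 := pth_cocycle R (D b) (hDcomm b) π a ha g ((1 : H) : H ⧸ N) (n + 1)
    simp only [h4]
    rw [h5, hDpow, htr, h2 b hb g hg hpow, hκ]
    · have hs1 : s ((1 : H) : H ⧸ N) = 1 := by
        have h6 : e 0 = ((1 : H) : H ⧸ N) := by
          rw [he, Fin.val_zero, pow_zero, inv_one]
        rw [← h6, hse, Fin.val_zero, pow_zero, inv_one]
      have h7 : a (g ^ (n + 1)) ((1 : H) : H ⧸ N) = ⟨g ^ (n + 1), hpow⟩ := by
        apply Subtype.ext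
        have h8 : π (g ^ (n + 1)) ((1 : H) : H ⧸ N) = ((1 : H) : H ⧸ N) := by
          rw [hπ, mul_one]
          exact (QuotientGroup.eq_one_iff _).2 hpow
        rw [hadef, h8, hs1, inv_one, one_mul, mul_one]
      rw [h7]
    · refine mul_ne_zero ?_ hb
      intro h6
      rw [ZMod.natCast_eq_zero_iff] at h6
      exact hℓp ((Nat.prime_dvd_prime_iff_eq Fact.out hℓ).1 h6).symm

end Cfsg.Agent.H891.KGV
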